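import Cfsg.Prelude.Def_Blocks
import Cfsg.Agent.Lib.DegreeBounds.Basic
import Cfsg.Agent.Lib.PrincipalCore.Rational

/-!
# Self-centralizing subgroups of prime order
-/

set_option autoImplicit false
set_option linter.unusedSectionVars false
set_option linter.style.haveILetI false

namespace Cfsg.Agent.Lib.SelfCentP.Basic

open Subgroup
open Cfsg.Agent.Lib.Characters Cfsg.Agent.Lib.Characters.Basic
open scoped ComplexConjugate

universe u

variable {G : Type u} [Group G] {p : ℕ} [hp : Fact p.Prime]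

/-- Powers indexed by units modulo `p`. -/
def pw (y : G) (s : (ZMod p)ˣ) : G := y ^ (s : ZMod p).val

theorem pow_val_mul {y : G} (hy : y ^ p = 1) (a b : ZMod p) :
    (y ^ a.val) ^ b.val = y ^ (a * b).val := by
  rw [← pow_mul, ZMod.val_mul, ← pow_eq_pow_mod _ hy]

theorem pw_mul {y : G} (hy : y ^ p = 1) (a b : (ZMod p)ˣ) : pw (pw y a) b = pw y (a * b) :=
  pow_val_mul hy a b

theorem pw_one (y : G) : pw y (1 : (ZMod p)ˣ) = y := by
  rw [pw, Units.val_one, ZMod.val_one, pow_one]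

theorem pw_pow_eq_one {y : G} (hy : y ^ p = 1) (a : (ZMod p)ˣ) : (pw y a) ^ p = 1 := by
  rw [pw, ← pow_mul, mul_comm, pow_mul, hy, one_pow]

theorem pw_injective {y : G} (hy : orderOf y = p) :
    Function.Injective (pw (p := p) y) := fun a b h => by
  have := pow_injOn_Iio_orderOf (x := y) (show (a : ZMod p).val ∈ Set.Iio (orderOf y) by
    rw [hy]; exact ZMod.val_lt _) (show (b : ZMod p).val ∈ Set.Iio (orderOf y) by
    rw [hy]; exact ZMod.val_lt _) h
  exact Units.ext (ZMod.val_injective p this)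

theorem exists_pw {x y : G} (hx : orderOf x = p) (hy : y ∈ zpowers x) (hy1 : y ≠ 1) :
    ∃ s : (ZMod p)ˣ, pw x s = y := by
  obtain ⟨n, rfl⟩ := mem_zpowers_iff.mp hy
  have hne : (n : ZMod p) ≠ 0 := by
    rw [Ne, ZMod.intCast_zmod_eq_zero_iff_dvd]
    intro h
    exact hy1 (orderOf_dvd_iff_zpow_eq_one.mp (by rw [hx]; exact h))
  refine ⟨Units.mk0 _ hne, ?_⟩
  rw [pw, Units.val_mk0, ← zpow_natCast, zpow_eq_zpow_iff_modEq, hx,
    ← ZMod.intCast_eq_intCast_iff]
  simp

variable [Finite G]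

/-- The subgroup of exponents realised by conjugation. -/
def fusion (x : G) (hx : x ^ p = 1) : Subgroup (ZMod p)ˣ where
  carrier := {s | IsConj x (pw x s)}
  one_mem' := by rw [Set.mem_setOf_eq, pw_one]
  mul_mem' {a b} ha hb := by
    obtain ⟨c, hc⟩ := isConj_iff.mp ha
    refine hb.trans (isConj_iff.mpr ⟨c, ?_⟩)
    show c * pw x b * c⁻¹ = pw x (a * b)
    rw [← pw_mul hx, pw, pw, pw, ← conj_pow, hc]
    rfl
  inv_mem' {a} ha := by
    obtain ⟨c, hc⟩ := isConj_iff.mp ha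
    refine isConj_iff.mpr ⟨c⁻¹, ?_⟩
    have h : c * pw x a⁻¹ * c⁻¹ = x := by
      rw [pw, ← conj_pow, hc]
      show pw (pw x a) a⁻¹ = x
      rw [pw_mul hx, mul_inv_cancel, pw_one]
    calc c⁻¹ * x * (c⁻¹)⁻¹ = c⁻¹ * (c * pw x a⁻¹ * c⁻¹) * c := by rw [h, inv_inv]
      _ = pw x a⁻¹ := by group

theorem not_sq_dvd {x : G} (hx : orderOf x = p)
    (hC : centralizer ({x} : Set G) = zpowers x) : ¬ p ^ 2 ∣ Nat.card G := by
  intro h
  obtain ⟨Q, hQ⟩ := (IsPGroup.of_card (G := zpowers x) (n := 1)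
    (by rw [Nat.card_zpowers, hx, pow_one]) : IsPGroup p (zpowers x)).exists_le_sylow
  haveI : Nontrivial (Q : Subgroup G) :=
    ⟨⟨⟨x, hQ (mem_zpowers x)⟩, 1, fun e => hp.out.one_lt.ne' (by
      rw [← hx, show x = 1 from congrArg Subtype.val e, orderOf_one])⟩⟩
  haveI := Q.2.center_nontrivial
  obtain ⟨⟨z, hz⟩, hz1⟩ := exists_ne (1 : center (Q : Subgroup G))
  have hzC : (z : G) ∈ zpowers x := hC ▸ mem_centralizer_singleton_iff.mpr
    (congrArg Subtype.val (mem_center_iff.mp hz ⟨x, hQ (mem_zpowers x)⟩)).symm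
  have hzne : (z : G) ≠ 1 := fun e => hz1 (Subtype.ext (Subtype.ext e))
  obtain ⟨s, hs⟩ := exists_pw hx hzC hzne
  have hxp : x ^ p = 1 := hx ▸ pow_orderOf_eq_one x
  have hle : (Q : Subgroup G) ≤ zpowers x := by
    intro q hq
    rw [← hC, mem_centralizer_singleton_iff]
    have h1 : Commute (z : G) q :=
      (congrArg Subtype.val (mem_center_iff.mp hz ⟨q, hq⟩)).symm
    have h2 := h1.pow_left ((s⁻¹ : (ZMod p)ˣ) : ZMod p).val
    rw [← hs, show pw x s ^ ((s⁻¹ : (ZMod p)ˣ) : ZMod p).val = x by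
      show pw (pw x s) s⁻¹ = x
      rw [pw_mul hxp, mul_inv_cancel, pw_one]] at h2
    exact h2.symm.eq
  have := Subgroup.card_dvd_of_le hle
  rw [Q.card_eq_multiplicity, Nat.card_zpowers, hx] at this
  have h2 := (hp.out.pow_dvd_iff_le_factorization Nat.card_pos.ne').mp h
  exact absurd (Nat.le_of_dvd hp.out.pos ((pow_dvd_pow p h2).trans this))
    (not_le.mpr (by nlinarith [hp.out.two_le]))

open scoped Classical in
/-- The fusion subgroup has index the number of classes of elements of order `p`. -/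
theorem card_fusion_mul {x : G} (hx : orderOf x = p)
    (hC : centralizer ({x} : Set G) = zpowers x) :
    Nat.card (fusion x (hx ▸ pow_orderOf_eq_one x)) *
      Nat.card {C : ConjClasses G // ∃ g ∈ C.carrier, orderOf g = p} = p - 1 := by
  haveI : Finite (ConjClasses G) := Finite.of_surjective _ ConjClasses.mk_surjective
  have hxp : x ^ p = 1 := hx ▸ pow_orderOf_eq_one x
  let U := fusion x hxp
  let f : (ZMod p)ˣ → {C : ConjClasses G // ∃ g ∈ C.carrier, orderOf g = p} := fun s =>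
    ⟨ConjClasses.mk (pw x s), pw x s, ConjClasses.mem_carrier_mk, orderOf_eq_prime
      (pw_pow_eq_one hxp s) fun e => by
        rw [pw] at e
        have := Nat.le_of_dvd (ZMod.val_pos.mpr s.ne_zero) (orderOf_dvd_of_pow_eq_one e)
        rw [hx] at this
        exact (ZMod.val_lt (s : ZMod p)).not_ge this⟩
  have hf : Function.Surjective f := by
    rintro ⟨C, g, hg, hgp⟩
    have hS := not_sq_dvd hx hC
    obtain ⟨P, hP⟩ := (IsPGroup.of_card (G := zpowers x) (n := 1)
      (by rw [Nat.card_zpowers, hx, pow_one]) : IsPGroup p (zpowers x)).exists_le_sylow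
    obtain ⟨R, hR⟩ := (IsPGroup.of_card (G := zpowers g) (n := 1)
      (by rw [Nat.card_zpowers, hgp, pow_one]) : IsPGroup p (zpowers g)).exists_le_sylow
    have hPx : (P : Subgroup G) = zpowers x := by
      refine (eq_of_le_of_card_ge hP ?_).symm
      rw [P.card_eq_multiplicity, Nat.card_zpowers, hx]
      refine (Nat.pow_le_pow_right hp.out.pos ?_).trans_eq (pow_one p)
      by_contra hc
      exact hS ((hp.out.pow_dvd_iff_le_factorization Nat.card_pos.ne').mpr (by omega))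
    obtain ⟨c, hc⟩ := MulAction.exists_smul_eq G R P
    have hmem : c * g * c⁻¹ ∈ zpowers x := by
      rw [← hPx, ← hc]
      exact ⟨g, hR (mem_zpowers g), rfl⟩
    obtain ⟨s, hs⟩ := exists_pw hx hmem fun e => hp.out.one_lt.ne' (by
      rw [← hgp, conj_eq_one_iff.mp e, orderOf_one])
    refine ⟨s, Subtype.ext ?_⟩
    show ConjClasses.mk (pw x s) = C
    rw [← ConjClasses.mem_carrier_iff_mk_eq.mp hg, ConjClasses.mk_eq_mk_iff_isConj, hs]
    exact (isConj_iff.mpr ⟨c, rfl⟩).symm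
  have hker : ∀ a b, f a = f b ↔ (QuotientGroup.mk a : (ZMod p)ˣ ⧸ U) = QuotientGroup.mk b := by
    intro a b
    rw [QuotientGroup.eq, Subtype.ext_iff, ConjClasses.mk_eq_mk_iff_isConj]
    show IsConj (pw x a) (pw x b) ↔ IsConj x (pw x (a⁻¹ * b))
    constructor <;> intro h <;> obtain ⟨c, hc⟩ := isConj_iff.mp h
    · refine isConj_iff.mpr ⟨c, ?_⟩
      calc c * x * c⁻¹ = c * pw (pw x a) a⁻¹ * c⁻¹ := by
            rw [pw_mul hxp, mul_inv_cancel, pw_one]
        _ = pw (pw x b) a⁻¹ := by rw [pw, ← conj_pow, hc]; rfl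
        _ = pw x (a⁻¹ * b) := by rw [pw_mul hxp, mul_comm]
    · refine isConj_iff.mpr ⟨c, ?_⟩
      calc c * pw x a * c⁻¹ = pw (pw x (a⁻¹ * b)) a := by rw [pw, ← conj_pow, hc]; rfl
        _ = pw x b := by rw [pw_mul hxp, mul_comm (a⁻¹) b, inv_mul_cancel_right]
  let g : (ZMod p)ˣ ⧸ U → {C : ConjClasses G // ∃ g ∈ C.carrier, orderOf g = p} :=
    fun q => Quotient.liftOn' q f fun a b h => (hker a b).mpr (Quotient.sound' h)
  have hg : Function.Bijective g := by
    refine ⟨fun a b h => ?_, fun C => ?_⟩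
    · obtain ⟨a, rfl⟩ := QuotientGroup.mk_surjective a
      obtain ⟨b, rfl⟩ := QuotientGroup.mk_surjective b
      exact (hker a b).mp h
    · obtain ⟨s, hs⟩ := hf C
      exact ⟨QuotientGroup.mk s, hs⟩
  rw [← Nat.card_eq_of_bijective g hg, ← Subgroup.index_eq_card, U.card_mul_index,
    Nat.card_eq_fintype_card, ZMod.card_units]

open scoped Classical in
/-- The column bound: distinct restrictions to `⟨x⟩` come from distinct characters. -/
theorem sum_le {x : G} (hx : orderOf x = p) (hC : centralizer ({x} : Set G) = zpowers x)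
    (χ : Cfsg.IrrCharacter G) (hχ : χ ≠ oneChar G)
    (R : Finset (ZMod p)ˣ)
    (hR : ∀ a ∈ R, ∀ b ∈ R, (∀ s : (ZMod p)ˣ, (χ : G → ℂ) (pw (pw x s) a) = (χ : G → ℂ) (pw (pw x s) b)) →
      a = b) :
    ∑ a ∈ R, Complex.normSq ((χ : G → ℂ) (pw x a)) ≤ (p : ℝ) - 1 := by
  haveI := Fintype.ofFinite (Cfsg.IrrCharacter G)
  set n := Nat.card G
  have hn : p ∣ n := hx ▸ orderOf_dvd_natCard x
  obtain ⟨q, hq⟩ := hn
  have hcop : p.Coprime q := hp.out.coprime_iff_not_dvd.mpr fun h => by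
    obtain ⟨r, rfl⟩ := h
    exact not_sq_dvd hx hC ⟨r, by rw [show Nat.card G = p * (p * r) from hq]; ring⟩
  have hk : ∀ a : (ZMod p)ˣ, ∃ k : ℕ, k.Coprime n ∧ k ≡ (a : ZMod p).val [MOD p] := fun a => by
    obtain ⟨k, hk1, hk2⟩ := Nat.chineseRemainder hcop (a : ZMod p).val 1
    refine ⟨k, ?_, hk1⟩
    rw [hq]
    refine Nat.Coprime.mul_right ?_ ?_
    · refine (hp.out.coprime_iff_not_dvd.mpr fun h => ?_).symm
      have h1 := (Nat.ModEq.symm hk1).trans (Nat.modEq_zero_iff_dvd.mpr h)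
      have := Nat.le_of_dvd (ZMod.val_pos.mpr a.ne_zero) (Nat.modEq_zero_iff_dvd.mp h1)
      exact (ZMod.val_lt (a : ZMod p)).not_ge this
    · exact (Nat.coprime_iff_gcd_eq_one.mpr (by rw [hk2.gcd_eq, Nat.gcd_one_left]))
  choose k hk1 hk2 using hk
  let T : (ZMod p)ˣ → Cfsg.IrrCharacter G := fun a => PrincipalCore.Rational.powIrr (hk1 a) χ
  have hxp : x ^ p = 1 := hx ▸ pow_orderOf_eq_one x
  have hT : ∀ a s : (ZMod p)ˣ, (T a : G → ℂ) (pw x s) = (χ : G → ℂ) (pw (pw x s) a) := by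
    intro a s
    show (χ : G → ℂ) (pw x s ^ k a) = _
    rw [pow_eq_pow_mod (k a) (pw_pow_eq_one hxp s), hk2 a, ← pow_eq_pow_mod _
      (pw_pow_eq_one hxp s)]
    rfl
  have hinj : Set.InjOn T R := fun a ha b hb h => hR a ha b hb fun s => by rw [← hT, ← hT, h]
  have hne : oneChar G ∉ R.image T := by
    intro h
    obtain ⟨a, -, ha⟩ := Finset.mem_image.mp h
    apply hχ
    refine PrincipalCore.Rational.powIrr_injective (hk1 a) (ha.trans ?_)
    exact Subtype.ext rfl
  have hsum := Complete.sum_irr_mul_conj x x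
  rw [if_pos (IsConj.refl x), hC, Nat.card_zpowers, hx] at hsum
  simp only [Complex.mul_conj] at hsum
  have hsum' : ∑ θ : Cfsg.IrrCharacter G, Complex.normSq ((θ : G → ℂ) x) = (p : ℝ) := by
    exact_mod_cast hsum
  have hsub := Finset.sum_le_univ_sum_of_nonneg
    (f := fun θ : Cfsg.IrrCharacter G => Complex.normSq ((θ : G → ℂ) x))
    (s := insert (oneChar G) (R.image T)) fun _ => Complex.normSq_nonneg _
  rw [Finset.sum_insert hne, Finset.sum_image hinj, hsum', oneChar_apply, map_one] at hsub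
  have heq : ∀ a, Complex.normSq ((T a : G → ℂ) x) = Complex.normSq ((χ : G → ℂ) (pw x a)) :=
    fun a => by
    have h := hT a 1
    rw [pw_one] at h
    rw [h]
  simp only [heq] at hsub
  linarith

end Cfsg.Agent.Lib.SelfCentP.Basic
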