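import Cfsg.Agent.Lib.SelfCentP.Basic
import Mathlib.GroupTheory.Transfer
import Mathlib.RingTheory.RootsOfUnity.Complex

/-!
# A character of degree `p - 1` in a group with a self-centralizing subgroup of order `p`
-/

set_option autoImplicit false
set_option linter.unusedSectionVars false
set_option linter.style.haveILetI false

namespace Cfsg.Agent.Lib.SelfCentP.DegreePred

open Subgroup
open Cfsg.Agent.Lib.Characters Cfsg.Agent.Lib.Characters.Basic
open Cfsg.Agent.Lib.SelfCentP.Basic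
open scoped ComplexConjugate

universe u

variable {G : Type u} [Group G] [Finite G] {p : ℕ} [hp : Fact p.Prime]

/-- A sum over a group of a function constant on the cosets of a subgroup. -/
theorem sum_eq_card_mul {A : Type*} [CommGroup A] [Fintype A] (K : Subgroup A) [Fintype (A ⧸ K)]
    {R : Type*} [CommSemiring R] (f : A → R) (hf : ∀ a, ∀ u ∈ K, f (a * u) = f a) :
    ∑ a, f a = (Nat.card K : R) * ∑ q : A ⧸ K, f q.out := by
  classical
  rw [← Finset.sum_fiberwise Finset.univ (QuotientGroup.mk : A → A ⧸ K), Finset.mul_sum]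
  refine Finset.sum_congr rfl fun q _ => ?_
  rw [Finset.sum_congr rfl (g := fun _ => f q.out) fun a ha => by
    have h : (q.out : A ⧸ K) = (a : A ⧸ K) := by
      rw [(Finset.mem_filter.mp ha).2, QuotientGroup.out_eq']
    have := hf q.out _ (QuotientGroup.eq.mp h)
    rwa [mul_inv_cancel_left] at this, Finset.sum_const, nsmul_eq_mul]
  congr 2
  rw [Nat.card_eq_fintype_card, ← Finset.card_univ (α := K)]
  refine Finset.card_bij' (fun a ha => ⟨q.out⁻¹ * a, QuotientGroup.eq.mp ?_⟩)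
    (fun u _ => q.out * u) (fun _ _ => Finset.mem_univ _) (fun u _ => ?_) (fun a _ => by simp)
    (fun u _ => by simp)
  · rw [(Finset.mem_filter.mp ha).2, QuotientGroup.out_eq']
  · refine Finset.mem_filter.mpr ⟨Finset.mem_univ _, ?_⟩
    rw [QuotientGroup.mk_mul_of_mem _ u.2, QuotientGroup.out_eq']

/-- The exponents fixing the restriction of `χ` to `⟨x⟩`. -/
def stab {x : G} (hx : x ^ p = 1) (χ : G → ℂ) : Subgroup (ZMod p)ˣ where
  carrier := {u | ∀ s : (ZMod p)ˣ, χ (pw x (s * u)) = χ (pw x s)}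
  one_mem' := fun s => by rw [mul_one]
  mul_mem' {a b} ha hb := fun s => by rw [← mul_assoc, hb, ha]
  inv_mem' {a} ha := fun s => by rw [← ha (s * a⁻¹), inv_mul_cancel_right]

open scoped Classical in
/-- A character of degree `p - 1` has no fixed vector on `⟨x⟩`. -/
theorem sum_zpowers_eq_zero {x : G} (hx : orderOf x = p)
    (hC : centralizer ({x} : Set G) = zpowers x) (hneg : IsConj x x⁻¹) (hp2 : p ≠ 2)
    (χ : Cfsg.IrrCharacter G) (hχ : Cfsg.charDegree (χ : G → ℂ) + 1 = p)
    (P : Subgroup G) (hP : P = zpowers x) [Fintype P] :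
    ∑ z : P, (χ : G → ℂ) z = 0 := by
  have hxp : x ^ p = 1 := hx ▸ pow_orderOf_eq_one x
  haveI : NeZero p := ⟨hp.out.ne_zero⟩
  have hPcard : Nat.card P = p := by rw [hP, Nat.card_zpowers, hx]
  set K := stab hxp (χ : G → ℂ) with hK
  haveI := Fintype.ofFinite ((ZMod p)ˣ ⧸ K)
  set k := Nat.card K with hkdef
  have hd : (χ : G → ℂ) 1 = ((p - 1 : ℕ) : ℂ) := by
    rw [DegreeBounds.Basic.charDegree_irr]; congr 1; omega
  have hχ1 : χ ≠ oneChar G := fun e => by
    rw [e, oneChar_apply] at hd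
    have h1 : 1 = p - 1 := by exact_mod_cast hd
    have := hp.out.two_le
    omega
  -- `-1` fixes the restriction
  have hk2 : 2 ≤ k := by
    obtain ⟨c, hc⟩ := isConj_iff.mp hneg
    have hm1 : (-1 : (ZMod p)ˣ) ∈ K := fun s => by
      refine classFunction_apply_of_isConj (isClassFunction_irr χ) (isConj_iff.mpr ⟨c, ?_⟩)
      have h1 : pw x (-1 : (ZMod p)ˣ) = x⁻¹ := by
        refine eq_inv_of_mul_eq_one_left ?_
        rw [pw, ← pow_succ, ← orderOf_dvd_iff_pow_eq_one, hx]
        rw [← ZMod.natCast_eq_zero_iff, Nat.cast_add, ZMod.natCast_val, ZMod.cast_id]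
        simp
      rw [pw, ← conj_pow, show c * x * c⁻¹ = x⁻¹ from hc, ← h1]
      show pw (pw x (-1)) (s * -1) = pw x s
      rw [pw_mul hxp]
      simp
    haveI : Nontrivial K := ⟨⟨-1, hm1⟩, 1, fun e => by
      have h := congrArg (fun u : K => ((u : (ZMod p)ˣ) : ZMod p)) e
      simp only [Units.val_neg, OneMemClass.coe_one, Units.val_one] at h
      haveI : Fact (2 < p) := ⟨lt_of_le_of_ne hp.out.two_le (Ne.symm hp2)⟩
      exact ZMod.neg_one_ne_one h⟩
    exact Finite.one_lt_card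
  have hkdvd : k ∣ p - 1 := by
    have := K.card_subgroup_dvd_card
    rwa [Nat.card_eq_fintype_card (α := (ZMod p)ˣ), ZMod.card_units] at this
  -- nonidentity elements
  have hxP : x ∈ P := hP ▸ mem_zpowers x
  let e : (ZMod p)ˣ → P := fun s => ⟨pw x s, P.pow_mem hxP _⟩
  have he : Finset.univ.image e = Finset.univ.erase (1 : P) := by
    ext z
    simp only [Finset.mem_image, Finset.mem_univ, true_and, Finset.mem_erase, and_true]
    constructor
    · rintro ⟨s, rfl⟩ h
      have h' : x ^ (s : ZMod p).val = 1 := congrArg Subtype.val h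
      have := Nat.le_of_dvd (ZMod.val_pos.mpr s.ne_zero) (orderOf_dvd_of_pow_eq_one h')
      rw [hx] at this
      exact (ZMod.val_lt (s : ZMod p)).not_ge this
    · intro h
      obtain ⟨s, hs⟩ := exists_pw hx (hP.le z.2) (fun e1 => h (Subtype.ext e1))
      exact ⟨s, Subtype.ext hs⟩
  have heinj : Function.Injective e := fun a b h => pw_injective hx (congrArg Subtype.val h)
  have hsplit : ∀ f : P → ℂ, ∑ z, f z = f 1 + ∑ s, f (e s) := fun f => by
    rw [← Finset.add_sum_erase _ _ (Finset.mem_univ (1 : P)), ← he,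
      Finset.sum_image heinj.injOn]
  -- multiplicities
  have hcP : Cfsg.IsCharacter P ((χ : G → ℂ) ∘ P.subtype) :=
    isCharacter_comp P.subtype (isCharacter_irr χ)
  haveI := Fintype.ofFinite (Cfsg.IrrCharacter P)
  choose m hm using fun θ : Cfsg.IrrCharacter P => exists_classInner_nat hcP (isCharacter_irr θ)
  have hexp : ∀ z : P, (χ : G → ℂ) z = ∑ θ, (m θ : ℂ) * (θ : P → ℂ) z := fun z => by
    have := congrFun (character_eq_finsum hcP) z
    rw [finsum_eq_sum_of_fintype] at this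
    simp only [hm] at this
    simp only [Function.comp_apply, Subgroup.coe_subtype, Finset.sum_apply, Pi.smul_apply,
      smul_eq_mul] at this
    exact this
  have hin : ∀ θ : Cfsg.IrrCharacter P,
      ∑ z : P, (χ : G → ℂ) z * conj ((θ : P → ℂ) z) = (p : ℂ) * m θ := fun θ => by
    rw [← hm θ, Cfsg.classInner, hPcard, ← mul_assoc,
      mul_inv_cancel₀ (Nat.cast_ne_zero.mpr hp.out.ne_zero), one_mul]
    rfl
  have hsq : ∑ z : P, (χ : G → ℂ) z * conj ((χ : G → ℂ) z) =
      (p : ℂ) * ∑ θ, (m θ : ℂ) ^ 2 := by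
    calc _ = ∑ z : P, ∑ θ, (m θ : ℂ) * ((χ : G → ℂ) z * conj ((θ : P → ℂ) z)) := by
          refine Finset.sum_congr rfl fun z _ => ?_
          nth_rewrite 2 [hexp z]
          rw [map_sum, Finset.mul_sum]
          exact Finset.sum_congr rfl fun θ _ => by rw [map_mul, map_natCast]; ring
      _ = _ := by
          rw [Finset.sum_comm, Finset.mul_sum]
          refine Finset.sum_congr rfl fun θ _ => ?_
          rw [← Finset.mul_sum, hin]
          ring
  -- linear characters of `P`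
  have hcomm : ∀ a b : P, a * b = b * a := fun a b => Subtype.ext
    (by obtain ⟨i, hi⟩ := mem_zpowers_iff.mp (hP.le a.2)
        obtain ⟨j, hj⟩ := mem_zpowers_iff.mp (hP.le b.2)
        simp only [Subgroup.coe_mul, ← hi, ← hj, ← zpow_add, add_comm])
  have hone : ∀ θ : Cfsg.IrrCharacter P, (θ : P → ℂ) 1 = 1 := Linear.degree_eq_one_of_comm hcomm
  have hdeg : ∑ θ, m θ = p - 1 := by
    have := hexp 1
    simp only [OneMemClass.coe_one, hd, hone, mul_one] at this
    exact_mod_cast this.symm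
  -- coset constancy for a fixed nontrivial character
  have hconst : ∀ (θ : Cfsg.IrrCharacter P) (a : (ZMod p)ˣ), ∀ u ∈ K,
      ∑ s, (χ : G → ℂ) (pw x (s * (a * u))) * conj ((θ : P → ℂ) (e s)) =
        ∑ s, (χ : G → ℂ) (pw x (s * a)) * conj ((θ : P → ℂ) (e s)) := by
    intro θ a u hu
    refine Finset.sum_congr rfl fun s _ => ?_
    rw [← mul_assoc, hu]
  set θ₁ : Cfsg.IrrCharacter P := oneChar P with hθ₁
  obtain ⟨θ₀, hθ₀⟩ : ∃ θ : Cfsg.IrrCharacter P, θ ≠ θ₁ := by
    by_contra hall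
    push Not at hall
    obtain ⟨z, hz⟩ : ∃ z : P, z ≠ 1 := ⟨e 1, fun h => by
      have h' : x ^ ((1 : (ZMod p)ˣ) : ZMod p).val = 1 := congrArg Subtype.val h
      rw [Units.val_one, ZMod.val_one, pow_one] at h'
      exact hp.out.one_lt.ne (by rw [← hx, h', orderOf_one])⟩
    exact hz (Complete.eq_one_of_forall_irr fun θ => by rw [hall θ]; rfl)
  have hcopr : ∀ s : (ZMod p)ˣ, (s : ZMod p).val.Coprime (Nat.card P) := fun s => by
    rw [hPcard]
    exact (hp.out.coprime_iff_not_dvd.mpr fun h => (ZMod.val_lt (s : ZMod p)).not_ge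
      (Nat.le_of_dvd (ZMod.val_pos.mpr s.ne_zero) h)).symm
  let Θ : (ZMod p)ˣ → Cfsg.IrrCharacter P := fun s =>
    PrincipalCore.Rational.powIrr (hcopr s) θ₀
  let ψ : P →* ℂˣ := Linear.degOneHom (isCharacter_irr θ₀) (hone θ₀)
  have hψ : ∀ z, (θ₀ : P → ℂ) z = (ψ z : ℂ) := fun z =>
    (Linear.degOneHom_apply (isCharacter_irr θ₀) (hone θ₀) z).symm
  haveI : Fact (Nat.card P).Prime := ⟨hPcard.symm ▸ hp.out⟩
  have hψinj : Function.Injective ψ := by
    rw [← MonoidHom.ker_eq_bot_iff]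
    rcases ψ.ker.eq_bot_or_eq_top_of_prime_card with h | h
    · exact h
    · exfalso
      refine hθ₀ (Subtype.ext (funext fun z => ?_))
      rw [hψ, show ψ z = 1 from MonoidHom.mem_ker.mp (h ▸ mem_top z)]
      rfl
  have hΘinj : Function.Injective Θ := fun a b h => by
    have h1 := congrArg (fun θ : Cfsg.IrrCharacter P => (θ : P → ℂ) (e 1)) h
    simp only [Θ, PrincipalCore.Rational.powIrr_apply, hψ, Units.val_inj] at h1
    have h2 := congrArg Subtype.val (hψinj h1)
    simp only [SubgroupClass.coe_pow, e, pw_one] at h2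
    exact pw_injective hx h2
  have hΘne : ∀ s, Θ s ≠ θ₁ := fun s h => hθ₀ <| by
    refine PrincipalCore.Rational.powIrr_injective (hcopr s) (h.trans ?_)
    exact Subtype.ext rfl
  have huniv : insert θ₁ (Finset.univ.image Θ) = Finset.univ := by
    refine Finset.eq_univ_of_card _ ?_
    rw [Finset.card_insert_of_notMem (by simp [hΘne]), Finset.card_image_of_injective _ hΘinj,
      Finset.card_univ, ZMod.card_units, ← Nat.card_eq_fintype_card,
      Complete.card_irr_eq_card_conjClasses]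
    have hcc : Nat.card (ConjClasses P) = Nat.card P := by
      refine (Nat.card_eq_of_bijective ConjClasses.mk ⟨fun a b h => ?_,
        ConjClasses.mk_surjective⟩).symm
      obtain ⟨c, hc⟩ := isConj_iff.mp (ConjClasses.mk_eq_mk_iff_isConj.mp h)
      rwa [hcomm c, mul_inv_cancel_right] at hc
    rw [hcc, hPcard]
    have := hp.out.one_lt
    omega
  have hsum : ∀ f : Cfsg.IrrCharacter P → ℕ, ∑ θ, f θ = f θ₁ + ∑ s, f (Θ s) := fun f => by
    rw [← huniv, Finset.sum_insert (by simp [hΘne]), Finset.sum_image hΘinj.injOn]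
  -- constancy of the multiplicities on cosets
  have hmK : ∀ a : (ZMod p)ˣ, ∀ u ∈ K, m (Θ (a * u)) = m (Θ a) := by
    intro a u hu
    have hval : ∀ a : (ZMod p)ˣ, (p : ℂ) * m (Θ a) = ((p - 1 : ℕ) : ℂ) +
        ∑ s, (χ : G → ℂ) (pw x (s * a⁻¹)) * conj ((θ₀ : P → ℂ) (e s)) := by
      intro a
      rw [← hin, hsplit]
      congr 1
      · rw [OneMemClass.coe_one, hd, hone, map_one, mul_one]
      · refine (Equiv.sum_comp (Equiv.mulRight a⁻¹) (fun s => _)).symm.trans ?_
        refine Finset.sum_congr rfl fun s _ => ?_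
        show (χ : G → ℂ) (pw x (s * a⁻¹)) * conj ((θ₀ : P → ℂ) (e (s * a⁻¹) ^ (a : ZMod p).val)) = _
        rw [show e (s * a⁻¹) ^ (a : ZMod p).val = e s from ?_]
        refine Subtype.ext ?_
        show pw x (s * a⁻¹) ^ (a : ZMod p).val = pw x s
        rw [show pw x (s * a⁻¹) ^ (a : ZMod p).val = pw (pw x (s * a⁻¹)) a from rfl, pw_mul hxp,
          inv_mul_cancel_right]
    have h1 := hval (a * u)
    rw [mul_inv_rev, mul_comm u⁻¹, hconst θ₀ _ _ (K.inv_mem hu), ← hval a] at h1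
    exact_mod_cast mul_left_cancel₀ (Nat.cast_ne_zero.mpr hp.out.ne_zero) h1
  -- the trivial multiplicity
  set a := m θ₁ with ha
  suffices h0 : a = 0 by
    rw [show ∑ z : P, (χ : G → ℂ) z = ∑ z : P, (χ : G → ℂ) z * conj ((θ₁ : P → ℂ) z) by
      refine Finset.sum_congr rfl fun z _ => ?_
      rw [hθ₁, oneChar_apply, map_one, mul_one], hin, ← ha, h0]
    simp
  by_contra hne
  set S := ∑ s, m (Θ s) with hS
  have hkS : k ∣ S := by
    rw [hS, sum_eq_card_mul K (fun s => m (Θ s)) hmK]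
    exact ⟨_, rfl⟩
  have haS : a + S = p - 1 := by rw [← hdeg, hsum]
  have hka : k ≤ a := Nat.le_of_dvd (Nat.pos_of_ne_zero hne) ((Nat.dvd_add_left hkS).mp (haS ▸ hkdvd))
  have hB : S ≤ ∑ s, m (Θ s) ^ 2 := Finset.sum_le_sum fun s _ => Nat.le_self_pow two_ne_zero _
  have hcol : (p : ℝ) * ((a : ℝ) ^ 2 + ((∑ s, m (Θ s) ^ 2 : ℕ) : ℝ)) ≤
      ((p : ℝ) - 1) ^ 2 + (k : ℝ) * ((p : ℝ) - 1) := by
    have h1 : ((∑ z : P, Complex.normSq ((χ : G → ℂ) z) : ℝ) : ℂ) =
        (((p : ℝ) * (((∑ θ, m θ ^ 2 : ℕ)) : ℝ) : ℝ) : ℂ) := by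
      push_cast
      rw [← hsq]
      exact Finset.sum_congr rfl fun z _ => (Complex.mul_conj _).symm
    have h2 := Complex.ofReal_inj.mp h1
    rw [hsum] at h2
    have h3 : ∑ z : P, Complex.normSq ((χ : G → ℂ) z) = ((p : ℝ) - 1) ^ 2 +
        ∑ s : (ZMod p)ˣ, Complex.normSq ((χ : G → ℂ) (pw x s)) := by
      rw [← Finset.add_sum_erase _ _ (Finset.mem_univ (1 : P)), ← he,
        Finset.sum_image heinj.injOn]
      congr 1
      rw [OneMemClass.coe_one, hd, Complex.normSq_natCast, ← pow_two, Nat.cast_sub hp.out.one_le,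
        Nat.cast_one]
    have h4 : ∑ s : (ZMod p)ˣ, Complex.normSq ((χ : G → ℂ) (pw x s)) ≤ (k : ℝ) * ((p : ℝ) - 1) := by
      rw [sum_eq_card_mul K (fun s : (ZMod p)ˣ => Complex.normSq ((χ : G → ℂ) (pw x s)))
        (fun s u hu => by rw [hu s])]
      refine mul_le_mul_of_nonneg_left ?_ (Nat.cast_nonneg _)
      refine le_trans (le_of_eq (Finset.sum_image (s := Finset.univ)
        (f := fun s : (ZMod p)ˣ => Complex.normSq ((χ : G → ℂ) (pw x s)))
        (g := fun q : (ZMod p)ˣ ⧸ K => Quotient.out q) Quotient.out_injective.injOn).symm) ?_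
      refine sum_le hx hC χ hχ1 _ fun a ha b hb h => ?_
      obtain ⟨q, -, rfl⟩ := Finset.mem_image.mp ha
      obtain ⟨r, -, rfl⟩ := Finset.mem_image.mp hb
      have hmem : (q.out)⁻¹ * r.out ∈ K := fun s => by
        have := h (s * (q.out)⁻¹)
        rw [pw_mul hxp, pw_mul hxp, inv_mul_cancel_right] at this
        rw [← mul_assoc]
        exact this.symm
      have := QuotientGroup.eq.mpr hmem
      rw [QuotientGroup.out_eq', QuotientGroup.out_eq'] at this
      rw [this]
    push_cast at h2 ⊢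
    linarith
  have hle : p * (a ^ 2 + S) ≤ (p - 1) ^ 2 + k * (p - 1) := by
    have : (p : ℝ) * ((a : ℝ) ^ 2 + (S : ℝ)) ≤ ((p : ℝ) - 1) ^ 2 + (k : ℝ) * ((p : ℝ) - 1) := by
      refine le_trans ?_ hcol
      have : (S : ℝ) ≤ ((∑ s, m (Θ s) ^ 2 : ℕ) : ℝ) := by exact_mod_cast hB
      nlinarith
    rw [← @Nat.cast_le ℝ]
    push_cast [Nat.cast_sub hp.out.one_le]
    exact this
  obtain ⟨q, rfl⟩ : ∃ q, p = q + 1 := ⟨p - 1, by have := hp.out.one_le; omega⟩
  simp only [add_tsub_cancel_right] at hle haS hkdvd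
  have hq : 0 < q := by have := hp.out.two_le; omega
  have hkq : k ≤ q := Nat.le_of_dvd hq hkdvd
  have hkqa : k * q ≤ a * q := Nat.mul_le_mul_right q hka
  obtain ⟨a', ha'⟩ : ∃ a', a = 2 + a' := ⟨a - 2, by omega⟩
  rw [ha'] at hle haS hkqa
  nlinarith [Nat.zero_le (q * a' * a'), Nat.zero_le (a' * a'), Nat.zero_le (q * a')]

/-- An element without fixed points on `⟨x⟩` has character value zero. -/
theorem apply_eq_zero (P : Subgroup G) [Fintype P] (χ : Cfsg.IrrCharacter G)
    (h0 : ∑ z : P, (χ : G → ℂ) z = 0) {h : G} (hn : ∀ z ∈ P, h * z * h⁻¹ ∈ P)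
    (hfp : ∀ z ∈ P, h * z = z * h → z = 1) : (χ : G → ℂ) h = 0 := by
  classical
  obtain ⟨n, ρ, hirr, hρ⟩ := exists_rep χ |> fun ⟨n, ρ, a, b⟩ => (⟨n, ρ, a, b⟩ :
    ∃ (n : ℕ) (ρ : Representation ℂ G (Fin n → ℂ)), ρ.IsIrreducible ∧ ρ.character = (χ : G → ℂ))
  let E : Module.End ℂ (Fin n → ℂ) := (Fintype.card P : ℂ)⁻¹ • ∑ z : P, ρ z
  have hmul : ∀ w : P, ρ w * ∑ z : P, ρ z = ∑ z : P, ρ z := fun w => by
    rw [Finset.mul_sum]
    exact Fintype.sum_equiv (Equiv.mulLeft w) _ _ fun z => by simp [← map_mul]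
  have hcard : (Fintype.card P : ℂ) ≠ 0 := Nat.cast_ne_zero.mpr Fintype.card_ne_zero
  have hE : IsIdempotentElem E := by
    show E * E = E
    simp only [E, smul_mul_assoc, Finset.sum_mul, hmul, Finset.sum_const, Finset.card_univ,
      mul_smul_comm, ← Nat.cast_smul_eq_nsmul ℂ, smul_smul]
    congr 1
    field_simp
  have htr : LinearMap.trace ℂ _ E = 0 := by
    simp only [E, map_smul, map_sum, smul_eq_mul]
    rw [show ∑ z : P, LinearMap.trace ℂ _ (ρ (z : G)) = ∑ z : P, (χ : G → ℂ) z from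
      Finset.sum_congr rfl fun z _ => congrFun hρ z, h0, mul_zero]
  have hE0 : E = 0 := by
    have hproj := LinearMap.IsIdempotentElem.isProj_range E hE
    rw [hproj.trace, Nat.cast_eq_zero, Submodule.finrank_eq_zero, LinearMap.range_eq_bot] at htr
    exact htr
  have hS : ∑ z : P, ρ z = 0 := by
    have := congrArg (fun F => (Fintype.card P : ℂ) • F) hE0
    simpa [E, smul_smul, hcard] using this
  have hsum : ∑ z : P, (χ : G → ℂ) ((z : G) * h) = 0 := by
    have := congrArg (fun F => LinearMap.trace ℂ _ (F * ρ h)) hS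
    simp only [Finset.sum_mul, map_sum, zero_mul, map_zero, ← map_mul] at this
    rw [← this]
    exact Finset.sum_congr rfl fun z _ => (congrFun hρ _).symm
  let f : P → P := fun z => ⟨(z : G) * (h * (z : G)⁻¹ * h⁻¹),
    P.mul_mem z.2 (hn _ (P.inv_mem z.2))⟩
  have hf : Function.Injective f := by
    intro a b hab
    have hab' : (a : G) * (h * (a : G)⁻¹ * h⁻¹) = (b : G) * (h * (b : G)⁻¹ * h⁻¹) :=
      congrArg Subtype.val hab
    have hd := hfp ((b : G)⁻¹ * a) (P.mul_mem (P.inv_mem b.2) a.2) ?_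
    · exact Subtype.ext (inv_mul_eq_one.mp hd).symm
    · have h2 : (b : G)⁻¹ * a = h * ((b : G)⁻¹ * a) * h⁻¹ := by
        calc (b : G)⁻¹ * a
            = (b : G)⁻¹ * ((a : G) * (h * (a : G)⁻¹ * h⁻¹)) * (h * a * h⁻¹) := by group
          _ = _ := by rw [hab']; group
      exact (mul_inv_eq_iff_eq_mul.mp h2.symm)
  have hb := Finite.injective_iff_bijective.mp hf
  rw [← hb.sum_comp fun z : P => (χ : G → ℂ) ((z : G) * h)] at hsum
  rw [Finset.sum_congr rfl (g := fun _ => (χ : G → ℂ) h) fun z _ => ?_, Finset.sum_const,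
    Finset.card_univ, nsmul_eq_mul, mul_eq_zero] at hsum
  · exact hsum.resolve_left hcard
  · refine (classFunction_apply_of_isConj (isClassFunction_irr χ) (isConj_iff.mpr ⟨z, ?_⟩)).symm
    simp [f, mul_assoc]

/-- The product of the `n`-th roots of unity. -/
theorem prod_pow {ω : ℂ} {n : ℕ} (hω : IsPrimitiveRoot ω n) (hn : Even n) (hn0 : n ≠ 0) :
    ∏ i ∈ Finset.range n, ω ^ i = -1 := by
  obtain ⟨l, rfl⟩ := hn
  rw [Finset.prod_pow_eq_pow_sum, Finset.sum_range_id,
    show (l + l) * (l + l - 1) / 2 = l * (l + l - 1) by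
      rw [show l + l = 2 * l by ring, mul_assoc, Nat.mul_div_cancel_left _ two_pos], pow_mul]
  have hneg : ω ^ l = -1 := by
    refine ((sq_eq_one_iff.mp (?_ : (ω ^ l) ^ 2 = 1)).resolve_left ?_)
    · rw [← pow_mul, mul_two, hω.pow_eq_one]
    · exact hω.pow_ne_one_of_pos_of_lt (by omega) (by omega)
  rw [hneg]
  exact Odd.neg_one_pow ⟨l - 1, by omega⟩

open scoped Classical in
/-- A diagonalisable operator of order `n` with vanishing power sums. -/
theorem prod_eq_neg_one {ι : Type*} [Fintype ι] (ζ : ι → ℂ) {n : ℕ} (hn : Even n) (hn0 : n ≠ 0)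
    (hζ : ∀ i, ζ i ^ n = 1) (h0 : ∀ j, 0 < j → j < n → ∑ i, ζ i ^ j = 0)
    (hodd : Odd (Fintype.card ι / n)) : ∏ i, ζ i = -1 := by
  have hω := Complex.isPrimitiveRoot_exp n hn0
  set ω := Complex.exp (2 * Real.pi * Complex.I / n)
  haveI : NeZero n := ⟨hn0⟩
  choose r hr1 hr2 using fun i => hω.eq_pow_of_pow_eq_one (hζ i)
  have hcnt : ∀ a ∈ Finset.range n,
      n * (Finset.univ.filter fun i => r i = a).card = Fintype.card ι := by
    intro a ha
    have h1 : ∑ i, ∑ j ∈ Finset.range n, (ζ i / ω ^ a) ^ j =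
        ((n * (Finset.univ.filter fun i => r i = a).card : ℕ) : ℂ) := by
      rw [← Finset.sum_filter_add_sum_filter_not Finset.univ fun i => r i = a]
      rw [Finset.sum_congr rfl (g := fun _ => (n : ℂ)) fun i hi => ?_,
        Finset.sum_eq_zero (s := Finset.univ.filter fun i => ¬ r i = a) fun i hi => ?_]
      · simp [mul_comm]
      · have hne : ζ i / ω ^ a ≠ 1 := fun e => by
          rw [div_eq_one_iff_eq (pow_ne_zero _ (hω.ne_zero hn0)), ← hr2 i] at e
          exact (Finset.mem_filter.mp hi).2 (hω.pow_inj (hr1 i) (Finset.mem_range.mp ha) e)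
        rw [geom_sum_eq hne, div_pow, hζ, ← pow_mul, mul_comm, pow_mul, hω.pow_eq_one, one_pow,
          div_one, sub_self, zero_div]
      · rw [Finset.sum_congr rfl (g := fun _ => (1 : ℂ)) fun j _ => ?_]
        · simp
        · rw [← hr2 i, (Finset.mem_filter.mp hi).2,
            div_self (pow_ne_zero _ (hω.ne_zero hn0)), one_pow]
    have h2 : ∑ i, ∑ j ∈ Finset.range n, (ζ i / ω ^ a) ^ j = (Fintype.card ι : ℂ) := by
      rw [Finset.sum_comm, Finset.sum_eq_single 0]
      · simp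
      · intro j hj hj0
        simp only [div_pow, ← Finset.sum_div,
          h0 j (Nat.pos_of_ne_zero hj0) (Finset.mem_range.mp hj), zero_div]
      · intro h; exact absurd (Finset.mem_range.mpr (Nat.pos_of_ne_zero hn0)) h
    exact_mod_cast h1.symm.trans h2
  calc ∏ i, ζ i = ∏ a ∈ Finset.range n, ∏ i ∈ Finset.univ.filter (fun i => r i = a), ζ i :=
        (Finset.prod_fiberwise_of_maps_to (fun i _ => Finset.mem_range.mpr (hr1 i)) _).symm
    _ = ∏ a ∈ Finset.range n, (ω ^ a) ^ (Fintype.card ι / n) := by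
        refine Finset.prod_congr rfl fun a ha => ?_
        rw [Finset.prod_congr rfl (g := fun _ => ω ^ a) fun i hi => by
          rw [← hr2 i, (Finset.mem_filter.mp hi).2], Finset.prod_const, ← hcnt a ha,
          Nat.mul_div_cancel_left _ (Nat.pos_of_ne_zero hn0)]
    _ = -1 := by rw [Finset.prod_pow, prod_pow hω hn hn0, hodd.neg_one_pow]

/-- The determinant at an element with vanishing power values. -/
theorem exists_linear {h : G} {n : ℕ} (hn : Even n) (hn0 : n ≠ 0) (hord : h ^ n = 1)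
    (χ : Cfsg.IrrCharacter G) (h0 : ∀ j, 0 < j → j < n → (χ : G → ℂ) (h ^ j) = 0)
    (hodd : Odd (Cfsg.charDegree (χ : G → ℂ) / n)) :
    ∃ l : G →* ℂˣ, (l h : ℂ) = -1 := by
  classical
  obtain ⟨d, ρ, hρ, hχ⟩ := exists_rep χ
  obtain ⟨ι, hι, b, ζ, hb, -, -⟩ := Diag.exists_eigenbasis ρ h hn0 hord
  refine ⟨((LinearMap.det : Module.End ℂ (Fin d → ℂ) →* ℂ).comp ρ).toHomUnits, ?_⟩
  show LinearMap.det (ρ h) = -1
  have hM : LinearMap.toMatrix b b (ρ h) = Matrix.diagonal ζ := by
    ext i j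
    rw [LinearMap.toMatrix_apply, (hb j).1, map_smul, Finsupp.smul_apply, b.repr_self,
      Matrix.diagonal_apply]
    by_cases hij : i = j
    · subst hij; simp
    · simp [Finsupp.single_apply, Ne.symm hij, hij]
  rw [← LinearMap.det_toMatrix b, hM, Matrix.det_diagonal]
  refine prod_eq_neg_one ζ hn hn0 (fun i => (hb i).2) (fun j hj hjn => ?_) ?_
  · have hact : ∀ i, (ρ (h ^ j)) (b i) = ζ i ^ j • b i := by
      intro i
      clear h0 hj hjn
      induction j with
      | zero => simp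
      | succ j ih => rw [pow_succ, map_mul, Module.End.mul_apply, (hb i).1, map_smul, ih,
          smul_smul, pow_succ']
    rw [← Diag.trace_eq_sum_eigenvalues b _ _ hact,
      show LinearMap.trace ℂ _ (ρ (h ^ j)) = (χ : G → ℂ) (h ^ j) from congrFun hχ _]
    exact h0 j hj hjn
  · have hcd : Fintype.card ι = Cfsg.charDegree (χ : G → ℂ) := by
      rw [← Module.finrank_eq_card_basis b]
      have := DegreeBounds.Basic.charDegree_irr χ
      rw [← congrFun hχ 1, Representation.char_one] at this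
      exact_mod_cast this
    rwa [hcd]

theorem even_index_of_linear {h : G} (l : G →* ℂˣ) (hl : (l h : ℂ) = -1) :
    Even (commutator G).index := by
  have hne : l h ≠ 1 := fun e => by
    rw [e] at hl
    norm_num at hl
  have hker : commutator G ≤ l.ker := Abelianization.commutator_subset_ker l
  refine even_iff_two_dvd.mpr (dvd_trans ?_ (index_dvd_of_le hker))
  rw [index_ker]
  have h2 : orderOf (l h) = 2 := orderOf_eq_prime (Units.ext (by simp [hl])) hne
  rw [← h2, ← orderOf_mk (l h) (MonoidHom.mem_range.mpr ⟨h, rfl⟩)]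
  exact orderOf_dvd_natCard _

end Cfsg.Agent.Lib.SelfCentP.DegreePred
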