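import Cfsg.Agent.Lib.SelfCentP.Basic
import Mathlib.GroupTheory.Transfer
import Mathlib.GroupTheory.Solvable

/-!
# The normalizer of a self-centralizing subgroup of order `p` and its complements
-/

set_option autoImplicit false
set_option linter.unusedSectionVars false
set_option linter.style.haveILetI false

namespace Cfsg.Agent.Lib.SelfCentP.Normalizer

open Subgroup
open scoped commutatorElement
open Cfsg.Agent.Lib.SelfCentP.Basic

universe u

variable {G : Type u} [Group G] [Finite G] {p : ℕ} [hp : Fact p.Prime] {x : G}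

theorem card_P (hx : orderOf x = p) : Nat.card (zpowers x) = p := by rw [Nat.card_zpowers, hx]

theorem eq_zpowers_of_sylow (hx : orderOf x = p) (hC : centralizer ({x} : Set G) = zpowers x)
    (P : Sylow p G) (hxP : x ∈ (P : Subgroup G)) : (P : Subgroup G) = zpowers x := by
  refine (eq_of_le_of_card_ge (zpowers_le.mpr hxP) ?_).symm
  rw [P.card_eq_multiplicity, card_P hx]
  refine (Nat.pow_le_pow_right hp.out.pos ?_).trans_eq (pow_one p)
  by_contra hc
  exact not_sq_dvd hx hC ((hp.out.pow_dvd_iff_le_factorization Nat.card_pos.ne').mpr (by omega))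

theorem exists_sylow (hx : orderOf x = p) (hC : centralizer ({x} : Set G) = zpowers x) :
    ∃ P : Sylow p G, (P : Subgroup G) = zpowers x := by
  obtain ⟨P, hP⟩ := (IsPGroup.of_card (G := zpowers x) (n := 1)
    (by rw [card_P hx, pow_one]) : IsPGroup p (zpowers x)).exists_le_sylow
  exact ⟨P, eq_zpowers_of_sylow hx hC P (hP (mem_zpowers x))⟩

theorem card_subgroups (hx : orderOf x = p) (hC : centralizer ({x} : Set G) = zpowers x) :
    Nat.card {H : Subgroup G // Nat.card H = p} = (normalizer (zpowers x : Set G)).index := by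
  obtain ⟨P, hP⟩ := exists_sylow hx hC
  have hpc : p ^ (Nat.card G).factorization p = p := by
    rw [← P.card_eq_multiplicity, hP, card_P hx]
  rw [← hP, show (normalizer ((P : Subgroup G) : Set G)).index = Nat.card (Sylow p G) from
    P.card_eq_index_normalizer.symm]
  refine (Nat.card_eq_of_bijective (fun Q : Sylow p G =>
    (⟨Q, by rw [Q.card_eq_multiplicity, hpc]⟩ : {H : Subgroup G // Nat.card H = p})) ⟨?_, ?_⟩).symm
  · intro a b h
    exact Sylow.ext (congrArg Subtype.val h)
  · rintro ⟨H, hH⟩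
    exact ⟨Sylow.ofCard H (by rw [hH, hpc]), rfl⟩

/-- The action of the normalizer on `⟨x⟩`. -/
theorem exists_action (hx : orderOf x = p) :
    ∃ f : (normalizer (zpowers x : Set G)) →* (ZMod p)ˣ,
      ∀ g : normalizer (zpowers x : Set G), (g : G) * x * (g : G)⁻¹ = pw x (f g) := by
  have hxp : x ^ p = 1 := hx ▸ pow_orderOf_eq_one x
  have h : ∀ g : normalizer (zpowers x : Set G),
      ∃ s : (ZMod p)ˣ, pw x s = (g : G) * x * (g : G)⁻¹ := fun g =>
    exists_pw hx ((mem_normalizer_iff.mp g.2 x).mp (mem_zpowers x)) fun e =>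
      hp.out.one_lt.ne (by rw [← hx, conj_eq_one_iff.mp e, orderOf_one])
  choose s hs using h
  refine ⟨MonoidHom.mk' s fun a b => pw_injective hx ?_, fun g => (hs g).symm⟩
  rw [hs, ← pw_mul hxp]
  calc ((a * b : normalizer (zpowers x : Set G)) : G) * x *
        ((a * b : normalizer (zpowers x : Set G)) : G)⁻¹
      = (a : G) * ((b : G) * x * (b : G)⁻¹) * (a : G)⁻¹ := by rw [Subgroup.coe_mul]; group
    _ = ((a : G) * x * (a : G)⁻¹) ^ (s b : ZMod p).val := by rw [← hs b, pw, conj_pow]
    _ = pw (pw x (s a)) (s b) := by rw [← hs a]; rfl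

/-- The action has kernel `⟨x⟩` and image the fusion subgroup. -/
theorem action_spec (hx : orderOf x = p) (hC : centralizer ({x} : Set G) = zpowers x)
    (f : (normalizer (zpowers x : Set G)) →* (ZMod p)ˣ)
    (hf : ∀ g : normalizer (zpowers x : Set G), (g : G) * x * (g : G)⁻¹ = pw x (f g)) :
    f.ker = (zpowers x).subgroupOf (normalizer (zpowers x : Set G)) ∧
      f.range = fusion x (hx ▸ pow_orderOf_eq_one x) := by
  refine ⟨?_, ?_⟩
  · ext g
    have key : (g : G) ∈ zpowers x ↔ (g : G) * x = x * g := by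
      rw [← mem_centralizer_singleton_iff, hC]
    rw [MonoidHom.mem_ker, mem_subgroupOf, key]
    constructor
    · intro h
      have := hf g
      rw [h, pw_one] at this
      exact mul_inv_eq_iff_eq_mul.mp this
    · intro h
      refine pw_injective hx ?_
      rw [← hf, pw_one, mul_inv_eq_iff_eq_mul, h]
  · ext s
    constructor
    · rintro ⟨g, rfl⟩
      exact isConj_iff.mpr ⟨g, hf g⟩
    · intro hs
      obtain ⟨c, hc⟩ := isConj_iff.mp (show IsConj x (pw x s) from hs)
      have hle : ∀ q ∈ zpowers x, c * q * c⁻¹ ∈ zpowers x := by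
        intro q hq
        obtain ⟨k, rfl⟩ := mem_zpowers_iff.mp hq
        rw [← conj_zpow, hc]
        exact zpow_mem (pow_mem (mem_zpowers x) _) k
      have hcN : c ∈ normalizer (zpowers x : Set G) := by
        refine mem_normalizer_iff.mpr fun q => ⟨hle q, fun h => ?_⟩
        let φ : zpowers x → zpowers x := fun q => ⟨c * q * c⁻¹, hle q q.2⟩
        have hφ : Function.Injective φ := fun a b h => Subtype.ext
          (mul_left_cancel (mul_right_cancel (congrArg Subtype.val h)))
        obtain ⟨a, ha⟩ := (Finite.injective_iff_surjective.mp hφ) ⟨_, h⟩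
        have ha' : c * a * c⁻¹ = c * q * c⁻¹ := congrArg Subtype.val ha
        rw [← mul_left_cancel (mul_right_cancel ha')]
        exact a.2
      exact ⟨⟨c, hcN⟩, pw_injective hx (by rw [← hf]; exact hc)⟩

theorem card_normalizer (hx : orderOf x = p) (hC : centralizer ({x} : Set G) = zpowers x) :
    Nat.card (normalizer (zpowers x : Set G)) =
      p * Nat.card (fusion x (hx ▸ pow_orderOf_eq_one x)) := by
  obtain ⟨f, hf⟩ := exists_action hx
  obtain ⟨hk, hr⟩ := action_spec hx hC f hf
  rw [← f.ker.card_mul_index, index_ker, hr, hk,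
    Nat.card_congr (subgroupOfEquivOfLe le_normalizer).toEquiv, card_P hx]

/-- A normal subgroup of order prime to `p` meets the normalizer trivially. -/
theorem disjoint_normalizer (hx : orderOf x = p) (hC : centralizer ({x} : Set G) = zpowers x)
    (K : Subgroup G) [hK : K.Normal] (hKp : ¬ p ∣ Nat.card K) :
    Disjoint K (normalizer (zpowers x : Set G)) := by
  have hbot : K ⊓ zpowers x = ⊥ := by
    refine inf_eq_bot_of_coprime ?_
    rw [card_P hx]
    exact (hp.out.coprime_iff_not_dvd.mpr hKp).symm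
  rw [disjoint_iff, eq_bot_iff]
  rintro z ⟨hzK, hzN⟩
  have h1 : z * x * z⁻¹ * x⁻¹ ∈ K ⊓ zpowers x := by
    refine Subgroup.mem_inf.mpr ⟨?_, mul_mem ((mem_normalizer_iff.mp hzN x).mp (mem_zpowers x))
      (inv_mem (mem_zpowers x))⟩
    rw [show z * x * z⁻¹ * x⁻¹ = z * (x * z⁻¹ * x⁻¹) by group]
    exact mul_mem hzK (hK.conj_mem _ (inv_mem hzK) x)
  rw [hbot, mem_bot, mul_inv_eq_one, mul_inv_eq_iff_eq_mul] at h1
  have hzP : z ∈ zpowers x := hC ▸ mem_centralizer_singleton_iff.mpr h1
  rw [← hbot]
  exact ⟨hzK, hzP⟩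

/-- A normal subgroup of order prime to `p` is a commutator image of `x`. -/
theorem exists_commutator_eq (hx : orderOf x = p) (hC : centralizer ({x} : Set G) = zpowers x)
    (K : Subgroup G) [hK : K.Normal] (hKp : ¬ p ∣ Nat.card K) {y : G} (hy : y ∈ K) :
    ∃ k ∈ K, k * x * k⁻¹ * x⁻¹ = y := by
  let φ : K → K := fun k => ⟨k * x * (k : G)⁻¹ * x⁻¹, by
    rw [show (k : G) * x * (k : G)⁻¹ * x⁻¹ = k * (x * (k : G)⁻¹ * x⁻¹) by group]
    exact mul_mem k.2 (hK.conj_mem _ (inv_mem k.2) x)⟩
  have hφ : Function.Injective φ := by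
    intro a b h
    have h' : (a : G) * x * (a : G)⁻¹ = b * x * (b : G)⁻¹ :=
      mul_right_cancel (congrArg Subtype.val h)
    have hmem : (b : G)⁻¹ * a ∈ zpowers x := by
      rw [← hC, mem_centralizer_singleton_iff]
      calc (b : G)⁻¹ * a * x = (b : G)⁻¹ * (a * x * (a : G)⁻¹) * a := by group
        _ = x * ((b : G)⁻¹ * a) := by rw [h']; group
    have : (b : G)⁻¹ * a ∈ K ⊓ zpowers x := Subgroup.mem_inf.mpr ⟨mul_mem (inv_mem b.2) a.2, hmem⟩
    rw [show K ⊓ zpowers x = ⊥ from inf_eq_bot_of_coprime (by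
      rw [card_P hx]; exact (hp.out.coprime_iff_not_dvd.mpr hKp).symm), mem_bot,
      inv_mul_eq_one] at this
    exact Subtype.ext this.symm
  obtain ⟨k, hk⟩ := (Finite.injective_iff_surjective.mp hφ) ⟨y, hy⟩
  exact ⟨k, k.2, congrArg Subtype.val hk⟩

/-- No fusion: there is a normal complement equal to the derived subgroup. -/
theorem of_no_fusion (hx : orderOf x = p) (hC : centralizer ({x} : Set G) = zpowers x)
    (hU : Nat.card (fusion x (hx ▸ pow_orderOf_eq_one x)) = 1) :
    Nat.card (commutator G) = (normalizer (zpowers x : Set G)).index ∧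
      IsCyclic (G ⧸ commutator G) ∧ (commutator G).index = p := by
  obtain ⟨P, hP⟩ := exists_sylow hx hC
  have hNc : Nat.card (normalizer (zpowers x : Set G)) = p := by
    rw [card_normalizer hx hC, hU, mul_one]
  have hNP : normalizer (zpowers x : Set G) = zpowers x :=
    (eq_of_le_of_card_ge le_normalizer (by rw [hNc, card_P hx])).symm
  have hN : normalizer ((P : Subgroup G) : Set G) ≤ centralizer ((P : Subgroup G) : Set G) := by
    rw [hP, hNP]
    intro a ha
    refine mem_centralizer_iff.mpr fun b hb => ?_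
    obtain ⟨i, rfl⟩ := mem_zpowers_iff.mp ha
    obtain ⟨j, rfl⟩ := mem_zpowers_iff.mp hb
    rw [← zpow_add, ← zpow_add, add_comm]
  haveI : IsMulCommutative (P : Subgroup G) := by rw [hP]; infer_instance
  set K := (MonoidHom.transferSylow P hN).ker with hK
  have hcomp := MonoidHom.ker_transferSylow_isComplement' P hN
  rw [← hK] at hcomp
  have hidx : K.index = p := by
    have h1 := hcomp.symm.index_eq_card
    have h2 : Nat.card (P : Subgroup G) = p := by rw [hP, card_P hx]
    exact h1.trans h2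
  have hKp : ¬ p ∣ Nat.card K := fun h => not_sq_dvd hx hC
    ⟨Nat.card K / p, by rw [← K.card_mul_index, hidx, pow_two]; rw [mul_assoc, mul_comm p (_ / _),
      Nat.div_mul_cancel h, mul_comm]⟩
  have hle : K ≤ commutator G := fun y hy => by
    obtain ⟨k, -, rfl⟩ := exists_commutator_eq hx hC K hKp hy
    exact commutator_mem_commutator (mem_top k) (mem_top x)
  have hge : commutator G ≤ K := by
    letI : CommGroup (P : Subgroup G) :=
      { (inferInstance : Group (P : Subgroup G)) with mul_comm := fun a b => mul_comm' a b }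
    exact Abelianization.commutator_subset_ker _
  have heq : commutator G = K := le_antisymm hge hle
  refine ⟨?_, ?_, heq ▸ hidx⟩
  · have h := K.card_mul_index
    rw [hidx, ← (normalizer (zpowers x : Set G)).card_mul_index, hNc, mul_comm] at h
    rw [heq]
    exact Nat.eq_of_mul_eq_mul_left hp.out.pos h
  · exact isCyclic_of_prime_card (by rw [← index_eq_card, heq, hidx])

/-- With fusion, `x` lies in the derived subgroup. -/
theorem mem_commutator (hx : orderOf x = p) (hC : centralizer ({x} : Set G) = zpowers x)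
    (hU : Nat.card (fusion x (hx ▸ pow_orderOf_eq_one x)) ≠ 1) : x ∈ commutator G := by
  obtain ⟨⟨s, hs⟩, hs1⟩ : ∃ s : fusion x (hx ▸ pow_orderOf_eq_one x), s ≠ 1 := by
    by_contra h
    push Not at h
    haveI : Subsingleton (fusion x (hx ▸ pow_orderOf_eq_one x)) :=
      ⟨fun a b => (h a).trans (h b).symm⟩
    exact hU (Nat.card_of_subsingleton 1)
  obtain ⟨c, hc⟩ := isConj_iff.mp (show IsConj x (pw x s) from hs)
  have hne : c * x * c⁻¹ * x⁻¹ ≠ 1 := fun e => hs1 <| Subtype.ext <| pw_injective hx <| by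
    show pw x s = pw x 1
    rw [pw_one, ← hc]
    exact mul_inv_eq_one.mp e
  have hmem : c * x * c⁻¹ * x⁻¹ ∈ zpowers x := by
    rw [hc]
    exact mul_mem (pow_mem (mem_zpowers x) _) (inv_mem (mem_zpowers x))
  obtain ⟨r, hr⟩ := exists_pw hx hmem hne
  have hxp : x ^ p = 1 := hx ▸ pow_orderOf_eq_one x
  have hcm : pw x r ∈ commutator G := hr ▸ commutator_mem_commutator (mem_top c) (mem_top x)
  have h2 : pw (pw x r) r⁻¹ ∈ commutator G := pow_mem hcm _
  rwa [pw_mul hxp, mul_inv_cancel, pw_one] at h2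

/-- A proper second derived subgroup is a normal complement of the normalizer. -/
theorem of_derived_ne (hx : orderOf x = p) (hC : centralizer ({x} : Set G) = zpowers x)
    (hU : Nat.card (fusion x (hx ▸ pow_orderOf_eq_one x)) ≠ 1)
    (hne : derivedSeries G 2 ≠ derivedSeries G 1) :
    Nat.card (derivedSeries G 2) = (normalizer (zpowers x : Set G)).index ∧
      Nat.card (commutator G) = p * (normalizer (zpowers x : Set G)).index := by
  obtain ⟨P, hP⟩ := exists_sylow hx hC
  set N := normalizer (zpowers x : Set G) with hNdef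
  set D := derivedSeries G 2 with hD
  haveI : D.Normal := derivedSeries_normal G 2
  have hxG : x ∈ commutator G := mem_commutator hx hC hU
  have hD1 : D = ⁅commutator G, commutator G⁆ := by
    rw [hD, derivedSeries_succ, derivedSeries_one]
  have hDle : D ≤ commutator G := hD1 ▸ commutator_le_self _
  have hfr : N ⊔ commutator G = ⊤ := by
    have h := Sylow.normalizer_sup_eq_top' (N := commutator G) P
      (hP ▸ zpowers_le.mpr hxG)
    rw [← hP] at hNdef
    rw [hNdef]
    exact h
  obtain ⟨f, hf⟩ := exists_action hx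
  obtain ⟨hk, -⟩ := action_spec hx hC f hf
  have hNN : ⁅N, N⁆ ≤ zpowers x := by
    have h1 : commutator N ≤ f.ker := Abelianization.commutator_subset_ker f
    rw [hk] at h1
    rw [← map_subtype_commutator, map_le_iff_le_comap]
    exact h1
  have hxD : x ∉ D := by
    intro hxD
    apply hne
    refine le_antisymm (derivedSeries_antitone G one_le_two) ?_
    have hPD : (P : Subgroup G) ≤ D := hP ▸ zpowers_le.mpr hxD
    have h := Sylow.normalizer_sup_eq_top' (N := D) P hPD
    replace h : N ⊔ D = ⊤ := by rw [hNdef, ← hP]; exact h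
    rw [derivedSeries_one, commutator_def, Subgroup.commutator_le]
    intro a _ b _
    have ha : a ∈ N ⊔ D := h ▸ mem_top a
    have hb : b ∈ N ⊔ D := h ▸ mem_top b
    rw [sup_comm, mem_sup_of_normal_left] at ha hb
    obtain ⟨d₁, hd₁, n₁, hn₁, rfl⟩ := ha
    obtain ⟨d₂, hd₂, n₂, hn₂, rfl⟩ := hb
    rw [← QuotientGroup.eq_one_iff]
    have hc : (⁅n₁, n₂⁆ : G) ∈ D :=
      zpowers_le.mpr hxD (hNN (commutator_mem_commutator hn₁ hn₂))
    have e1 : ((d₁ * n₁ : G) : G ⧸ D) = (n₁ : G ⧸ D) := by
      rw [QuotientGroup.mk_mul, (QuotientGroup.eq_one_iff d₁).mpr hd₁, one_mul]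
    have e2 : ((d₂ * n₂ : G) : G ⧸ D) = (n₂ : G ⧸ D) := by
      rw [QuotientGroup.mk_mul, (QuotientGroup.eq_one_iff d₂).mpr hd₂, one_mul]
    rw [← (QuotientGroup.eq_one_iff _).mpr hc]
    show QuotientGroup.mk' D ⁅d₁ * n₁, d₂ * n₂⁆ = QuotientGroup.mk' D ⁅n₁, n₂⁆
    rw [map_commutatorElement, map_commutatorElement, QuotientGroup.mk'_apply,
      QuotientGroup.mk'_apply, QuotientGroup.mk'_apply, QuotientGroup.mk'_apply, e1, e2]
  have hDp : ¬ p ∣ Nat.card D := by
    intro h
    obtain ⟨⟨y, hy⟩, hyo⟩ := exists_prime_orderOf_dvd_card' p h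
    rw [orderOf_mk] at hyo
    obtain ⟨R, hR⟩ := (IsPGroup.of_card (G := zpowers y) (n := 1)
      (by rw [Nat.card_zpowers, hyo, pow_one]) : IsPGroup p (zpowers y)).exists_le_sylow
    obtain ⟨g, hg⟩ := MulAction.exists_smul_eq G R P
    have hmem : g * y * g⁻¹ ∈ zpowers x := by
      rw [← hP, ← hg]
      exact ⟨y, hR (mem_zpowers y), rfl⟩
    obtain ⟨s, hs⟩ := exists_pw hx hmem fun e => hp.out.one_lt.ne
      (by rw [← hyo, conj_eq_one_iff.mp e, orderOf_one])
    have h1 : pw x s ∈ D := hs ▸ Normal.conj_mem inferInstance y hy g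
    have h2 : pw (pw x s) s⁻¹ ∈ D := pow_mem h1 _
    rw [pw_mul (hx ▸ pow_orderOf_eq_one x), mul_inv_cancel, pw_one] at h2
    exact hxD h2
  have hG1 : commutator G = D ⊔ zpowers x := by
    refine le_antisymm (fun g hg => ?_) (sup_le hDle (zpowers_le.mpr hxG))
    obtain ⟨k, hk, hk'⟩ := exists_commutator_eq hx hC D hDp
      (y := g * x * g⁻¹ * x⁻¹) (hD1 ▸ commutator_mem_commutator hg hxG)
    have hmem : k⁻¹ * g ∈ zpowers x := by
      rw [← hC, mem_centralizer_singleton_iff]
      have h' : k * x * k⁻¹ = g * x * g⁻¹ := mul_right_cancel hk'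
      calc k⁻¹ * g * x = k⁻¹ * (g * x * g⁻¹) * g := by group
        _ = x * (k⁻¹ * g) := by rw [← h']; group
    rw [show g = k * (k⁻¹ * g) by group]
    exact mul_mem (mem_sup_left hk) (mem_sup_right hmem)
  have hsup : D ⊔ N = ⊤ := by
    rw [eq_top_iff, ← hfr, hG1]
    exact sup_le le_sup_right (sup_le le_sup_left (le_trans le_normalizer le_sup_right))
  have hcomp : IsComplement' D N := isComplement'_of_disjoint_and_mul_eq_univ
    (disjoint_normalizer hx hC D hDp) (by rw [← normal_mul, hsup, coe_top])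
  have hcard : Nat.card D = N.index := hcomp.index_eq_card.symm
  refine ⟨hcard, ?_⟩
  have hdisj : Disjoint D (zpowers x) :=
    Disjoint.mono_right le_normalizer (disjoint_normalizer hx hC D hDp)
  have h1 := Subgroup.relIndex_mul_relIndex (⊥ : Subgroup G) D (D ⊔ zpowers x) bot_le le_sup_left
  rw [relIndex_bot_left, relIndex_bot_left, sup_comm, relIndex_sup_right,
    ← inf_relIndex_right, hdisj.eq_bot, relIndex_bot_left, card_P hx, sup_comm, ← hG1, hcard] at h1
  rw [← h1, mul_comm]

/-- A normal subgroup of the order of the index forces a proper second derived subgroup. -/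
theorem derived_ne_of_complement (hx : orderOf x = p)
    (hC : centralizer ({x} : Set G) = zpowers x)
    (hU : Nat.card (fusion x (hx ▸ pow_orderOf_eq_one x)) ≠ 1)
    (S : Subgroup G) [S.Normal] (hS : Nat.card S = (normalizer (zpowers x : Set G)).index)
    (hSp : ¬ p ∣ Nat.card S) :
    derivedSeries G 2 ≠ derivedSeries G 1 := by
  set N := normalizer (zpowers x : Set G) with hNdef
  have hcomp : IsComplement' S N := isComplement'_of_card_mul_and_disjoint
    (by rw [hS, mul_comm, N.card_mul_index]) (disjoint_normalizer hx hC S hSp)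
  let φ : N →* G ⧸ S := (QuotientGroup.mk' S).comp N.subtype
  have hφ : Function.Surjective φ := by
    intro q
    obtain ⟨g, rfl⟩ := QuotientGroup.mk_surjective q
    obtain ⟨⟨⟨s, hs⟩, ⟨n, hn⟩⟩, h⟩ := hcomp.2 g
    refine ⟨⟨n, hn⟩, ?_⟩
    show (n : G ⧸ S) = (g : G ⧸ S)
    rw [← h, QuotientGroup.mk_mul, (QuotientGroup.eq_one_iff s).mpr hs, one_mul]
  obtain ⟨f, hf⟩ := exists_action hx
  obtain ⟨hk, -⟩ := action_spec hx hC f hf
  have hN2 : derivedSeries N 2 = ⊥ := by
    rw [derivedSeries_succ, derivedSeries_one, eq_bot_iff, Subgroup.commutator_le]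
    intro a ha b hb
    have h1 : commutator N ≤ (zpowers x).subgroupOf N := hk ▸ Abelianization.commutator_subset_ker f
    obtain ⟨i, hi⟩ := mem_zpowers_iff.mp (mem_subgroupOf.mp (h1 ha))
    obtain ⟨j, hj⟩ := mem_zpowers_iff.mp (mem_subgroupOf.mp (h1 hb))
    rw [mem_bot, commutatorElement_eq_one_iff_mul_comm]
    refine Subtype.ext ?_
    rw [Subgroup.coe_mul, Subgroup.coe_mul, ← hi, ← hj, ← zpow_add, ← zpow_add, add_comm]
  have hD : derivedSeries G 2 ≤ S := by
    have h1 := map_derivedSeries_eq hφ 2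
    have h2 := map_derivedSeries_eq (f := QuotientGroup.mk' S) (QuotientGroup.mk'_surjective S) 2
    rw [hN2, Subgroup.map_bot] at h1
    rw [← h1, Subgroup.map_eq_bot_iff, QuotientGroup.ker_mk'] at h2
    exact h2
  intro e
  have hxS : x ∈ S := hD (e ▸ derivedSeries_one (G := G) ▸ mem_commutator hx hC hU)
  exact hSp (hx ▸ orderOf_mk x hxS ▸ orderOf_dvd_natCard _)

end Cfsg.Agent.Lib.SelfCentP.Normalizer
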